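import Mathlib

set_option autoImplicit false

namespace Groth.Agent.Verlinde

open Finset Matrix Complex Equiv

variable {r : ℕ}

/-- The alternant at `v` with exponents `e`. -/
noncomputable def alt (n : ℕ) (e : Fin r → ℕ) (v : Fin r → ℤ) : ℂ :=
  (Matrix.of fun i j : Fin r =>
    exp (2 * Real.pi * I * ((e i : ℂ) * (v j : ℂ)) / n)).det

/-- The twisted product of two alternants. -/
noncomputable def W (n : ℕ) (e e' : Fin r → ℕ) (v : Fin r → ℤ) : ℂ :=
  exp (-(2 * Real.pi * I * (((∑ i, e i) + ∑ i, e' i : ℕ) : ℂ) * ((∑ j, v j : ℤ) : ℂ) /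
    ((r : ℂ) * n))) * alt n e v * alt n e' v

theorem alt_perm (n : ℕ) (e : Fin r → ℕ) (v : Fin r → ℤ) (σ : Perm (Fin r)) :
    alt n e (v ∘ σ) = ((Perm.sign σ : ℤ) : ℂ) * alt n e v := by
  rw [alt, alt, ← det_permute']
  rfl

theorem W_perm (n : ℕ) (e e' : Fin r → ℕ) (v : Fin r → ℤ) (σ : Perm (Fin r)) :
    W n e e' (v ∘ σ) = W n e e' v := by
  simp only [W, alt_perm, Function.comp_apply, Equiv.sum_comp σ v]
  rcases Int.units_eq_one_or (Perm.sign σ) with h | h <;> simp [h]

theorem alt_shift (n : ℕ) (e : Fin r → ℕ) (v : Fin r → ℤ) (c : ℤ) :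
    alt n e (fun j => v j + c) =
      exp (2 * Real.pi * I * ((∑ i, e i : ℕ) : ℂ) * c / n) * alt n e v := by
  have : exp (2 * Real.pi * I * ((∑ i, e i : ℕ) : ℂ) * c / n) =
      ∏ i, exp (2 * Real.pi * I * (e i : ℂ) * c / n) := by
    rw [← exp_sum]; congr 1
    push_cast
    simp only [Finset.mul_sum, Finset.sum_mul, Finset.sum_div]
  rw [this, alt, alt, ← det_mul_column]
  congr 1
  ext i j
  simp only [Matrix.of_apply, ← exp_add]
  congr 1
  push_cast; ring

theorem W_shift (n : ℕ) (hn : n ≠ 0) (hr : r ≠ 0) (e e' : Fin r → ℕ) (v : Fin r → ℤ) (c : ℤ) :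
    W n e e' (fun j => v j + c) = W n e e' v := by
  rw [W, W, alt_shift, alt_shift]
  rw [show ∀ a b c x y : ℂ, exp a * (exp b * x) * (exp c * y) = exp (a + b + c) * x * y from
    fun a b c x y => by rw [exp_add, exp_add]; ring]
  congr 3
  rw [Finset.sum_add_distrib]
  have : (n : ℂ) ≠ 0 := Nat.cast_ne_zero.mpr hn
  have : (r : ℂ) ≠ 0 := Nat.cast_ne_zero.mpr hr
  simp only [Finset.sum_const, Finset.card_univ, Fintype.card_fin, nsmul_eq_mul]
  push_cast
  field_simp
  ring

theorem alt_periodic (n : ℕ) (hn : n ≠ 0) (e : Fin r → ℕ) (v w : Fin r → ℤ) :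
    alt n e (fun j => v j + (n : ℤ) * w j) = alt n e v := by
  rw [alt, alt]
  congr 1
  ext i j
  simp only [Matrix.of_apply]
  rw [exp_eq_exp_iff_exists_int]
  refine ⟨(e i : ℤ) * w j, ?_⟩
  have : (n : ℂ) ≠ 0 := Nat.cast_ne_zero.mpr hn
  push_cast
  field_simp

theorem W_periodic (n : ℕ) (hn : n ≠ 0) (hr : r ≠ 0) (e e' : Fin r → ℕ) (v w : Fin r → ℤ) :
    W n e e' (fun j => v j + (n : ℤ) * w j) =
      exp (-(2 * Real.pi * I * (((∑ i, e i) + ∑ i, e' i : ℕ) : ℂ) / (r : ℂ))) ^ (∑ j, w j) *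
        W n e e' v := by
  rw [W, W, alt_periodic n hn, alt_periodic n hn, ← exp_int_mul, ← mul_assoc, ← mul_assoc,
    ← exp_add]
  congr 3
  have : (n : ℂ) ≠ 0 := Nat.cast_ne_zero.mpr hn
  have : (r : ℂ) ≠ 0 := Nat.cast_ne_zero.mpr hr
  rw [Finset.sum_add_distrib, ← Finset.mul_sum]
  push_cast
  field_simp
  ring

/-- The vertex set of the sum. -/
abbrev Pts (r n : ℕ) : Finset (Fin r → Fin n) :=
  (Finset.univ : Finset (Fin r → Fin n)).filter
    (fun v => StrictAnti v ∧ ∀ i : Fin r, (i : ℕ) = r - 1 → (v i : ℕ) = 0)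

/-- Integer coordinates. -/
def coe' {n : ℕ} (v : Fin r → Fin n) : Fin r → ℤ := fun j => ((v j : ℕ) : ℤ)

theorem sum_eq_zero_of_twist (n : ℕ) (hn : n ≠ 0) (hr : 2 ≤ r) (e e' : Fin r → ℕ)
    (hζ : exp (-(2 * Real.pi * I * (((∑ i, e i) + ∑ i, e' i : ℕ) : ℂ) / (r : ℂ))) ≠ 1) :
    ∑ v ∈ Pts r n, W n e e' (coe' v) = 0 := by
  obtain ⟨s, rfl⟩ : ∃ s, r = s + 2 := ⟨r - 2, by omega⟩
  let L : Fin (s + 2) := Fin.last (s + 1)
  let Q : Fin (s + 2) := (Fin.last s).castSucc
  have hmem : ∀ v : Fin (s + 2) → Fin n, v ∈ Pts (s + 2) n ↔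
      StrictAnti v ∧ (v L : ℕ) = 0 := by
    intro v
    simp only [Pts, mem_filter, mem_univ, true_and]
    refine and_congr_right fun _ => ⟨fun h => h L (by simp [L]), fun h i hi => ?_⟩
    rwa [show i = L from Fin.ext (by simp [L]; omega)]
  have hQ : ∀ v ∈ Pts (s + 2) n, 0 < (v Q : ℕ) := by
    intro v hv
    have h := ((hmem v).mp hv).1 (show Q < L by simp [Q, L, Fin.lt_def])
    rw [Fin.lt_def] at h
    omega
  let rot : (v : Fin (s + 2) → Fin n) → v ∈ Pts (s + 2) n → (Fin (s + 2) → Fin n) := fun v hv =>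
    Fin.cons ⟨n - v Q, by have := hQ v hv; omega⟩
      (fun j : Fin (s + 1) => ⟨(v j.castSucc : ℕ) - v Q, by have := (v j.castSucc).2; omega⟩)
  have hle : ∀ v ∈ Pts (s + 2) n, ∀ j : Fin (s + 1), (v Q : ℕ) ≤ v j.castSucc := fun v hv j =>
    ((hmem v).mp hv).1.antitone (Fin.castSucc_le_castSucc_iff.mpr (Fin.le_last j))
  have hrot : ∀ v hv, rot v hv ∈ Pts (s + 2) n := by
    intro v hv
    rw [hmem]
    refine ⟨Fin.strictAnti_iff_succ_lt.mpr fun i => ?_, ?_⟩
    · rw [Fin.lt_def]
      induction i using Fin.cases with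
      | zero =>
        simp only [rot, Fin.cons_succ, Fin.castSucc_zero, Fin.cons_zero]
        have := hle v hv 0; have := (v (0 : Fin (s + 1)).castSucc).2; have := hQ v hv
        simp only [Fin.castSucc_zero] at *
        omega
      | succ i =>
        simp only [rot, Fin.cons_succ, Fin.castSucc_succ]
        have h := ((hmem v).mp hv).1 (show i.castSucc.castSucc < i.succ.castSucc by
          simp [Fin.lt_def])
        rw [Fin.lt_def] at h
        have := hle v hv i.succ
        simp only [show i.castSucc.succ = i.succ.castSucc from Fin.ext rfl] at *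
        omega
    · simp only [rot, show L = (Fin.last s).succ from rfl, Fin.cons_succ]
      simp [Q]
  have hW : ∀ v (hv : v ∈ Pts (s + 2) n), W n e e' (coe' (rot v hv)) =
      exp (-(2 * Real.pi * I * (((∑ i, e i) + ∑ i, e' i : ℕ) : ℂ) / ((s + 2 : ℕ) : ℂ))) *
        W n e e' (coe' v) := by
    intro v hv
    have heq : coe' (rot v hv) = ((fun j => (fun i => coe' v i + (-(v Q : ℕ) : ℤ)) j +
        (n : ℤ) * (Pi.single L 1 : Fin (s + 2) → ℤ) j) ∘ (finRotate (s + 2)).symm) := by
      have key : ∀ i, coe' (rot v hv) (finRotate (s + 2) i) =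
          coe' v i + (-(v Q : ℕ) : ℤ) + (n : ℤ) * (Pi.single L 1 : Fin (s + 2) → ℤ) i := by
        intro i
        induction i using Fin.lastCases with
        | last =>
          rw [finRotate_last]
          simp only [coe', rot, Fin.cons_zero, L, Pi.single_eq_same, mul_one,
            ((hmem v).mp hv).2]
          rw [Nat.cast_sub (by have := (v Q).2; omega)]
          push_cast; ring
        | cast i =>
          rw [show finRotate (s + 2) i.castSucc = i.succ from by
            simp [Fin.ext_iff, coe_finRotate_of_ne_last (Fin.castSucc_ne_last i)]]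
          simp only [coe', rot, Fin.cons_succ]
          rw [Pi.single_eq_of_ne (by simp [L]), Nat.cast_sub (hle v hv i)]
          ring
      funext j
      simpa using key ((finRotate (s + 2)).symm j)
    rw [heq, W_perm, W_periodic n hn (by omega), W_shift n hn (by omega),
      Finset.sum_pi_single', if_pos (mem_univ _), zpow_one]
  let g : {v // v ∈ Pts (s + 2) n} → {v // v ∈ Pts (s + 2) n} := fun v => ⟨rot v.1 v.2, hrot v.1 v.2⟩
  have hg : Function.Injective g := by
    rintro ⟨v, hv⟩ ⟨w, hw⟩ h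
    have h' : rot v hv = rot w hw := congrArg Subtype.val h
    have h0 := congrArg Fin.val (congrFun h' 0)
    simp only [rot, Fin.cons_zero] at h0
    refine Subtype.ext (funext fun i => Fin.ext ?_)
    change (v i : ℕ) = w i
    induction i using Fin.lastCases with
    | last => exact ((hmem v).mp hv).2.trans ((hmem w).mp hw).2.symm
    | cast i =>
      have hi := congrArg Fin.val (congrFun h' i.succ)
      simp only [rot, Fin.cons_succ] at hi
      have := hle v hv i; have := hle w hw i; have := (v Q).2; have := (w Q).2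
      omega
  have hsum : ∑ v ∈ Pts (s + 2) n, W n e e' (coe' v) =
      exp (-(2 * Real.pi * I * (((∑ i, e i) + ∑ i, e' i : ℕ) : ℂ) / ((s + 2 : ℕ) : ℂ))) *
        ∑ v ∈ Pts (s + 2) n, W n e e' (coe' v) := by
    rw [Finset.mul_sum]
    refine (Finset.sum_bij (fun v hv => rot v hv) hrot ?_ ?_ fun v hv => (hW v hv).symm).symm
    · intro v hv w hw h
      exact congrArg Subtype.val (hg (a₁ := ⟨v, hv⟩) (a₂ := ⟨w, hw⟩) (Subtype.ext h))
    · intro v hv
      obtain ⟨w, hw⟩ := Finite.injective_iff_surjective.mp hg ⟨v, hv⟩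
      exact ⟨w.1, w.2, congrArg Subtype.val hw⟩
  have : (1 - exp (-(2 * Real.pi * I * (((∑ i, e i) + ∑ i, e' i : ℕ) : ℂ) / ((s + 2 : ℕ) : ℂ)))) *
      ∑ v ∈ Pts (s + 2) n, W n e e' (coe' v) = 0 := by
    rw [sub_mul, one_mul, ← hsum, sub_self]
  exact (mul_eq_zero.mp this).resolve_left (sub_ne_zero.mpr (Ne.symm hζ))

/-- Orthogonality of characters of `ℤ/n`. -/
theorem geom_zero (n : ℕ) (hn : n ≠ 0) (d : ℤ) (hd : ¬ (n : ℤ) ∣ d) :
    ∑ x : Fin n, exp (2 * Real.pi * I * ((d : ℂ) * (x : ℕ)) / n) = 0 := by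
  have hnc : (n : ℂ) ≠ 0 := Nat.cast_ne_zero.mpr hn
  set q := exp (2 * Real.pi * I * (d : ℂ) / n) with hq
  have hqn : q ^ n = 1 := by
    rw [hq, ← exp_nat_mul, exp_eq_one_iff]
    exact ⟨d, by field_simp⟩
  have hq1 : q ≠ 1 := by
    rw [hq, Ne, exp_eq_one_iff]
    rintro ⟨m, hm⟩
    apply hd
    refine ⟨m, ?_⟩
    field_simp at hm
    have : (d : ℂ) = (n : ℂ) * m := by linear_combination hm
    exact_mod_cast this
  have : ∀ x : Fin n, exp (2 * Real.pi * I * ((d : ℂ) * (x : ℕ)) / n) = q ^ (x : ℕ) := fun x => by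
    rw [hq, ← exp_nat_mul]; congr 1; ring
  rw [Finset.sum_congr rfl fun x _ => this x, Fin.sum_univ_eq_sum_range (fun i => q ^ i),
    geom_sum_eq hq1, hqn]
  simp

theorem sum_all_eq_zero (n : ℕ) (hn : n ≠ 0) (hr : r ≠ 0) (e e' : Fin r → ℕ) (c : ℕ)
    (hc : (∑ i, e i) + ∑ i, e' i = r * c)
    (hno : ∀ σ τ : Perm (Fin r), ∃ j, ¬ (n : ℤ) ∣ ((e (σ j) : ℤ) + e' (τ j) - c)) :
    ∑ v : Fin r → Fin n, W n e e' (coe' v) = 0 := by
  have hW : ∀ v : Fin r → Fin n, W n e e' (coe' v) = ∑ σ : Perm (Fin r), ∑ τ : Perm (Fin r),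
      ((Perm.sign σ : ℤ) : ℂ) * ((Perm.sign τ : ℤ) : ℂ) *
        ∏ j, exp (2 * Real.pi * I * ((((e (σ j) : ℤ) + e' (τ j) - c : ℤ) : ℂ) * (v j : ℕ)) / n) := by
    intro v
    have hpre : exp (-(2 * Real.pi * I * (((∑ i, e i) + ∑ i, e' i : ℕ) : ℂ) *
        ((∑ j, coe' v j : ℤ) : ℂ) / ((r : ℂ) * n))) =
        ∏ j, exp (-(2 * Real.pi * I * ((c : ℂ) * (v j : ℕ)) / n)) := by
      rw [← exp_sum, hc]; congr 1
      have : (n : ℂ) ≠ 0 := Nat.cast_ne_zero.mpr hn
      have : (r : ℂ) ≠ 0 := Nat.cast_ne_zero.mpr hr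
      simp only [coe', Finset.sum_neg_distrib, neg_inj, ← Finset.sum_div, ← Finset.mul_sum]
      push_cast
      field_simp
    rw [W, alt, alt, det_apply', det_apply', hpre]
    simp only [Finset.mul_sum, Finset.sum_mul]
    rw [Finset.sum_comm]
    refine Finset.sum_congr rfl fun σ _ => Finset.sum_congr rfl fun τ _ => ?_
    rw [show ∀ p a A b B : ℂ, p * (a * A) * (b * B) = a * b * (p * A * B) from
      fun p a A b B => by ring]
    congr 1
    simp only [← Finset.prod_mul_distrib]
    refine Finset.prod_congr rfl fun j _ => ?_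
    simp only [Matrix.of_apply, ← exp_add]
    congr 1
    simp only [coe']
    push_cast
    ring
  simp_rw [hW]
  rw [Finset.sum_comm]
  refine Finset.sum_eq_zero fun σ _ => ?_
  rw [Finset.sum_comm]
  refine Finset.sum_eq_zero fun τ _ => ?_
  rw [← Finset.mul_sum, ← Fintype.prod_sum
    (fun j (x : Fin n) => exp (2 * Real.pi * I *
      ((((e (σ j) : ℤ) + e' (τ j) - c : ℤ) : ℂ) * (x : ℕ)) / n))]
  obtain ⟨j, hj⟩ := hno σ τ
  rw [Finset.prod_eq_zero (mem_univ j) (geom_zero n hn _ hj), mul_zero]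

theorem sum_pts_eq_zero_of_all (n : ℕ) [NeZero n] (hr : r ≠ 0) (e e' : Fin r → ℕ)
    (hζ : exp (-(2 * Real.pi * I * (((∑ i, e i) + ∑ i, e' i : ℕ) : ℂ) / (r : ℂ))) = 1)
    (hall : ∑ v : Fin r → Fin n, W n e e' (coe' v) = 0) :
    ∑ v ∈ Pts r n, W n e e' (coe' v) = 0 := by
  classical
  have hn : n ≠ 0 := NeZero.ne n
  -- translation invariance
  have htr : ∀ (v : Fin r → Fin n) (a : Fin n),
      W n e e' (coe' fun j => v j + a) = W n e e' (coe' v) := by
    intro v a
    have heq : coe' (fun j => v j + a) = fun j => (fun i => coe' v i + ((a : ℕ) : ℤ)) j +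
        (n : ℤ) * (-(((v j : ℕ) + (a : ℕ)) / n : ℕ) : ℤ) := by
      funext j
      simp only [coe', Fin.val_add]
      have := Nat.mod_add_div ((v j : ℕ) + a) n
      push_cast at this ⊢
      have h2 : (((v j : ℕ) + (a : ℕ)) % n : ℕ) + n * (((v j : ℕ) + (a : ℕ)) / n : ℕ) =
          ((v j : ℕ) + (a : ℕ)) := Nat.mod_add_div _ n
      zify at h2
      linarith
    rw [heq, W_periodic n hn hr, hζ, _root_.one_zpow, one_mul, W_shift n hn hr]
  have hperm : ∀ (v : Fin r → Fin n) (σ : Perm (Fin r)),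
      W n e e' (coe' (v ∘ σ)) = W n e e' (coe' v) := fun v σ => W_perm n e e' (coe' v) σ
  have hzero : ∀ v : Fin r → Fin n, ¬ Function.Injective v → W n e e' (coe' v) = 0 := by
    intro v hv
    obtain ⟨i, j, hij, hne⟩ := Function.not_injective_iff.mp hv
    rw [W, alt, det_zero_of_column_eq hne (fun a => by simp [coe', hij])]
    simp
  -- one coordinate zero
  have hj0 : ∀ j : Fin r, ∑ v ∈ univ.filter (fun v : Fin r → Fin n => v j = 0),
      W n e e' (coe' v) = 0 := by
    intro j
    have h1 : ∀ a : Fin n, ∑ v ∈ univ.filter (fun v : Fin r → Fin n => v j = a), W n e e' (coe' v) =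
        ∑ v ∈ univ.filter (fun v : Fin r → Fin n => v j = 0), W n e e' (coe' v) := by
      intro a
      refine Finset.sum_nbij' (fun v i => v i - a) (fun v i => v i + a) ?_ ?_ ?_ ?_ ?_
      · intro v hv; simp_all
      · intro v hv; simp_all
      · intro v _; simp
      · intro v _; simp
      · intro v _
        conv_lhs => rw [show v = fun i => (fun i => v i - a) i + a from funext fun i => by simp]
        exact htr _ a
    have h2 := Finset.sum_fiberwise (univ : Finset (Fin r → Fin n)) (fun v => v j)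
      (fun v => W n e e' (coe' v))
    rw [hall, Finset.sum_congr rfl (fun a _ => h1 a), Finset.sum_const, Finset.card_univ,
      Fintype.card_fin, nsmul_eq_mul] at h2
    exact (mul_eq_zero.mp h2).resolve_left (Nat.cast_ne_zero.mpr hn)
  -- zero in the image
  let T := univ.filter (fun v : Fin r → Fin n => Function.Injective v ∧ ∃ j, v j = 0)
  have hT : ∑ v ∈ T, W n e e' (coe' v) = 0 := by
    have h : ∀ v : Fin r → Fin n, (if Function.Injective v ∧ ∃ j, v j = 0
        then W n e e' (coe' v) else 0) = ∑ j, if v j = 0 then W n e e' (coe' v) else 0 := by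
      intro v
      by_cases hv : Function.Injective v
      · by_cases h0 : ∃ j, v j = 0
        · obtain ⟨j, hj⟩ := h0
          rw [if_pos ⟨hv, j, hj⟩, Finset.sum_eq_single j, if_pos hj]
          · exact fun b _ hb => if_neg fun h => hb (hv (h.trans hj.symm))
          · simp
        · rw [if_neg (fun h => h0 h.2), Finset.sum_eq_zero]
          exact fun b _ => if_neg fun h => h0 ⟨b, h⟩
      · simp [hv, hzero v hv]
    rw [Finset.sum_filter, Finset.sum_congr rfl (fun v _ => h v), Finset.sum_comm]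
    exact Finset.sum_eq_zero fun j _ => by rw [← Finset.sum_filter]; exact hj0 j
  -- sorting
  let last : Fin r := ⟨r - 1, by omega⟩
  have hmem : ∀ v : Fin r → Fin n, v ∈ Pts r n ↔ StrictAnti v ∧ v last = 0 := by
    intro v
    simp only [Pts, mem_filter, mem_univ, true_and]
    refine and_congr_right fun _ => ⟨fun h => Fin.ext (h last rfl), fun h i hi => ?_⟩
    rw [show i = last from Fin.ext hi, h]; rfl
  have hbij : ∑ p ∈ (Pts r n) ×ˢ (univ : Finset (Perm (Fin r))), W n e e' (coe' (p.1 ∘ p.2)) =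
      ∑ v ∈ T, W n e e' (coe' v) := by
    refine Finset.sum_bij (fun p _ => p.1 ∘ p.2) ?_ ?_ ?_ (fun _ _ => rfl)
    · rintro ⟨v, σ⟩ hp
      have hv := (hmem v).mp (Finset.mem_product.mp hp).1
      exact Finset.mem_filter.mpr ⟨mem_univ _, hv.1.injective.comp σ.injective,
        σ.symm last, by simp [hv.2]⟩
    · rintro ⟨v, σ⟩ hp ⟨w, τ⟩ hq h
      have hv := ((hmem v).mp (Finset.mem_product.mp hp).1).1
      have hw := ((hmem w).mp (Finset.mem_product.mp hq).1).1
      have hrange : Set.range v = Set.range w := by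
        rw [← σ.surjective.range_comp v, ← τ.surjective.range_comp w]
        exact congrArg Set.range h
      have hvw : v = w := by
        have h1 : StrictMono fun i => v (Fin.rev i) := fun a b hab => hv (Fin.rev_lt_rev.mpr hab)
        have h2 : StrictMono fun i => w (Fin.rev i) := fun a b hab => hw (Fin.rev_lt_rev.mpr hab)
        have h3 : (fun i => v (Fin.rev i)) = fun i => w (Fin.rev i) :=
          (StrictMono.range_inj h1 h2).mp (by
            rw [show (fun i => v (Fin.rev i)) = v ∘ Fin.rev from rfl,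
              show (fun i => w (Fin.rev i)) = w ∘ Fin.rev from rfl,
              Fin.rev_surjective.range_comp, Fin.rev_surjective.range_comp, hrange])
        funext i
        simpa using congrFun h3 (Fin.rev i)
      subst hvw
      exact Prod.ext rfl (Equiv.ext fun i => hv.injective (congrFun h i))
    · intro v hv
      obtain ⟨hinj, j, hj⟩ := (Finset.mem_filter.mp hv).2
      let π : Perm (Fin r) := Fin.revPerm.trans (Tuple.sort v)
      have hmono := (Tuple.monotone_sort v).strictMono_of_injective (hinj.comp (Tuple.sort v).injective)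
      have hanti : StrictAnti (v ∘ π) := fun a b hab => hmono (Fin.rev_lt_rev.mpr hab)
      refine ⟨(v ∘ π, π.symm), Finset.mem_product.mpr ⟨(hmem _).mpr ⟨hanti, ?_⟩, mem_univ _⟩,
        funext fun i => by simp⟩
      have hle : (v ∘ π) last ≤ (v ∘ π) (π.symm j) :=
        hanti.antitone (Fin.le_def.mpr (by simp [last]; omega))
      simp only [Function.comp_apply, Equiv.apply_symm_apply, hj] at hle ⊢
      exact Fin.le_zero_iff'.mp hle
  rw [hT, Finset.sum_product] at hbij
  simp only [hperm, Finset.sum_const, Finset.card_univ, nsmul_eq_mul, ← Finset.mul_sum] at hbij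
  exact (mul_eq_zero.mp hbij).resolve_left (Nat.cast_ne_zero.mpr Fintype.card_ne_zero)

/-- The combinatorial core. -/
theorem no_congruence {n : ℕ} (hr : r ≠ 0) (e e' : Fin r → ℕ) (he : StrictAnti e)
    (he' : StrictAnti e') (hen : ∀ i, e i < n) (hen' : ∀ i, e' i < n)
    (he'0 : ∃ i, e' i = 0) (c : ℕ) (hc : (∑ i, e i) + ∑ i, e' i = r * c) (σ τ : Perm (Fin r))
    (h : ∀ j, (n : ℤ) ∣ ((e (σ j) : ℤ) + e' (τ j) - c)) :
    ∃ M : ℕ, ∀ i, e i + e' (Fin.rev i) = M := by
  obtain ⟨π, hπ⟩ : ∃ π : Perm (Fin r), π = σ.symm.trans τ := ⟨_, rfl⟩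
  have hd : ∀ i, (n : ℤ) ∣ ((e i : ℤ) + e' (π i) - c) := fun i => by
    simpa [hπ] using h (σ.symm i)
  have hn : n ≠ 0 := by have := hen ⟨0, by omega⟩; omega
  set c0 := c % n with hc0
  have hd0 : ∀ i, e i + e' (π i) = c0 ∧ e i ≤ c0 ∨ e i + e' (π i) = c0 + n ∧ c0 < e i := by
    intro i
    have h1 : ((e i + e' (π i)) % n) = c0 := by
      have : ((e i + e' (π i) : ℕ) : ℤ) % n = (c : ℤ) % n :=
        Int.emod_eq_emod_iff_emod_sub_eq_zero.mpr (Int.emod_eq_zero_of_dvd (by push_cast; exact hd i))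
      exact_mod_cast this
    have := hen i; have := hen' (π i)
    rcases lt_or_ge (e i + e' (π i)) n with hlt | hge
    · rw [Nat.mod_eq_of_lt hlt] at h1; omega
    · rw [Nat.mod_eq_sub_mod hge, Nat.mod_eq_of_lt (by omega)] at h1; omega
  let t := (univ.filter fun i => c0 < e i).card
  have hsum : r * c = r * c0 + n * t := by
    rw [← hc, ← Equiv.sum_comp π e', ← Finset.sum_add_distrib]
    have : ∀ i, e i + e' (π i) = c0 + if c0 < e i then n else 0 := fun i => by
      rcases hd0 i with h | h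
      · rw [if_neg (by omega)]; omega
      · rw [if_pos h.2]; omega
    simp only [this, Finset.sum_add_distrib, ← Finset.sum_filter, Finset.sum_const,
      Finset.card_univ, Fintype.card_fin, smul_eq_mul, t]
    ring
  obtain ⟨i₀, hi₀⟩ := he'0
  have hlt : t < r := by
    have hi : π.symm i₀ ∉ univ.filter fun i => c0 < e i := by
      simp only [mem_filter, mem_univ, true_and, not_lt]
      rcases hd0 (π.symm i₀) with h | h
      · exact h.2
      · have := hen (π.symm i₀)
        simp only [Equiv.apply_symm_apply, hi₀] at h; omega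
    calc t < (univ : Finset (Fin r)).card :=
          Finset.card_lt_card ⟨Finset.filter_subset _ _, fun hsub => hi (hsub (mem_univ _))⟩
      _ = r := by simp
  have ht : t = 0 := by
    have hq : c = c0 + n * (c / n) := by rw [hc0]; exact (Nat.mod_add_div c n).symm
    have hnn : n * t = n * (r * (c / n)) := by
      have h2 : r * c = r * c0 + n * (r * (c / n)) :=
        calc r * c = r * (c0 + n * (c / n)) := by rw [← hq]
          _ = _ := by ring
      omega
    have ht' := Nat.eq_of_mul_eq_mul_left (Nat.pos_of_ne_zero hn) hnn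
    rcases Nat.eq_zero_or_pos (c / n) with h0 | hpos
    · simpa [h0] using ht'
    · have := Nat.le_mul_of_pos_right r hpos; omega
  have hall : ∀ i, e i + e' (π i) = c0 := fun i => by
    rcases hd0 i with h | h
    · exact h.1
    · have : i ∈ univ.filter fun i => c0 < e i := by simp [h.2]
      rw [Finset.card_eq_zero.mp ht] at this
      simp at this
  have hanti : StrictAnti π := fun a b hab => by
    by_contra hle
    have h2 := he'.antitone (not_lt.mp hle)
    have := he hab; have := hall a; have := hall b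
    omega
  have hid : (fun i => π (Fin.rev i)) = id :=
    (StrictMono.range_inj (f := fun i => π (Fin.rev i))
      (fun a b hab => hanti (Fin.rev_lt_rev.mpr hab)) strictMono_id).mp (by
        rw [show (fun i => π (Fin.rev i)) = ⇑π ∘ Fin.rev from rfl, Fin.rev_surjective.range_comp,
          π.surjective.range_eq, Set.range_id])
  refine ⟨c0, fun i => ?_⟩
  have := congrFun hid (Fin.rev i)
  simp only [Fin.rev_rev, id] at this
  rw [← this]
  exact hall i

end Groth.Agent.Verlinde
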