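import Groth.Agent.Verlinde.Basic

set_option autoImplicit false

namespace Groth.Agent.Verlinde

open Finset Matrix Complex Equiv

variable {r : ℕ}

theorem prod_pairs (f : Fin r → ℂ) :
    ∏ p ∈ (univ : Finset (Fin r × Fin r)).filter (fun p => p.1 < p.2), f p.1 * f p.2 =
      (∏ a, f a) ^ (r - 1) := by
  have hswap : ∏ p ∈ (univ : Finset (Fin r × Fin r)).filter (fun p => p.1 < p.2), f p.2 =
      ∏ p ∈ (univ : Finset (Fin r × Fin r)).filter (fun p => p.2 < p.1), f p.1 :=
    Finset.prod_nbij' Prod.swap Prod.swap (by intro p hp; simpa using hp)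
      (by intro p hp; simpa using hp) (by simp) (by simp) (by simp)
  rw [Finset.prod_mul_distrib, hswap,
    ← Finset.prod_union (by simp [Finset.disjoint_filter]; intro a b h; exact h.le)]
  have hu : (univ : Finset (Fin r × Fin r)).filter (fun p => p.1 < p.2) ∪
      (univ : Finset (Fin r × Fin r)).filter (fun p => p.2 < p.1) =
      (univ : Finset (Fin r × Fin r)).filter (fun p => p.1 ≠ p.2) := by
    ext p
    simp only [mem_union, mem_filter, mem_univ, true_and]
    exact ⟨fun h => h.elim ne_of_lt (fun h => (ne_of_lt h).symm), lt_or_gt_of_ne⟩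
  rw [hu, ← Finset.prod_pow, Finset.prod_filter, Fintype.prod_prod_type]
  refine Finset.prod_congr rfl fun a _ => ?_
  rw [← Finset.prod_filter]
  simp only [Finset.prod_const]
  congr 1
  rw [Finset.filter_ne, Finset.card_erase_of_mem (mem_univ a), Finset.card_univ, Fintype.card_fin]

theorem vand_sq (z : Fin r → ℂ) :
    (Matrix.of fun i j : Fin r => z j ^ (r - 1 - (i : ℕ))).det ^ 2 =
      ∏ p ∈ (univ : Finset (Fin r × Fin r)).filter (fun p => p.1 < p.2), (z p.1 - z p.2) ^ 2 := by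
  have h : (Matrix.of fun i j : Fin r => z j ^ (r - 1 - (i : ℕ))) =
      (Matrix.vandermonde z)ᵀ.submatrix Fin.revPerm id := by
    ext i j
    simp [Matrix.vandermonde, Fin.val_rev, show r - 1 - (i : ℕ) = r - ((i : ℕ) + 1) by omega]
  rw [h, Matrix.det_permute, Matrix.det_transpose, Matrix.det_vandermonde, mul_pow]
  have hs : (((Perm.sign (Fin.revPerm : Perm (Fin r))) : ℤ) : ℂ) ^ 2 = 1 := by
    rcases Int.units_eq_one_or (Perm.sign (Fin.revPerm : Perm (Fin r))) with h | h <;> simp [h]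
  rw [hs, one_mul, Finset.prod_filter, Fintype.prod_prod_type, ← Finset.prod_pow]
  refine Finset.prod_congr rfl fun i _ => ?_
  rw [← Finset.prod_filter, ← Finset.prod_pow]
  refine Finset.prod_congr (by ext j; simp) fun j _ => ?_
  ring

theorem sub_sq_eq (n : ℕ) (x y : ℕ) :
    (exp (2 * Real.pi * I * (x : ℂ) / n) - exp (2 * Real.pi * I * (y : ℂ) / n)) ^ 2 =
      (-1) * ((exp (2 * Real.pi * I * (x : ℂ) / n) * exp (2 * Real.pi * I * (y : ℂ) / n))) *
        (((2 * Real.sin (Real.pi * ((x : ℝ) - y) / n)) ^ 2 : ℝ) : ℂ) := by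
  set A := exp (Real.pi * I * (x : ℂ) / n)
  set B := exp (Real.pi * I * (y : ℂ) / n)
  have hA : exp (2 * Real.pi * I * (x : ℂ) / n) = A * A := by
    rw [← exp_add]; congr 1; ring
  have hB : exp (2 * Real.pi * I * (y : ℂ) / n) = B * B := by
    rw [← exp_add]; congr 1; ring
  have hA0 : A ≠ 0 := exp_ne_zero _
  have hB0 : B ≠ 0 := exp_ne_zero _
  push_cast
  have hs : (2 : ℂ) * Complex.sin ((Real.pi : ℂ) * ((x : ℂ) - y) / n) = (B / A - A / B) * I := by
    rw [Complex.two_sin]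
    congr 2
    · rw [← exp_sub]; congr 1; ring
    · rw [← exp_sub]; congr 1; ring
  rw [hs, hA, hB]
  field_simp
  rw [I_sq]; ring

theorem summand_eq (n : ℕ) (hn : n ≠ 0) (hr : r ≠ 0) (e e' : Fin r → ℕ) (L : ℕ)
    (hL : (∑ i, e i) + ∑ i, e' i = L + r * (r - 1))
    (v : Fin r → ℕ) (hv : Function.Injective v) (hvn : ∀ i, v i < n) (z : Fin r → ℂ)
    (hz : ∀ j, z j = exp (2 * Real.pi * I * (v j : ℂ) / n)) :
    exp (-(2 * Real.pi * I * (L : ℂ) * ((∑ j, v j : ℕ) : ℂ) / ((r : ℂ) * n))) *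
        ((Matrix.of fun i j : Fin r => z j ^ e i).det /
          (Matrix.of fun i j : Fin r => z j ^ (r - 1 - (i : ℕ))).det) *
        ((Matrix.of fun i j : Fin r => z j ^ e' i).det /
          (Matrix.of fun i j : Fin r => z j ^ (r - 1 - (i : ℕ))).det) *
        ((∏ p ∈ (univ : Finset (Fin r × Fin r)).filter (fun p => p.1 < p.2),
          ((2 : ℝ) * Real.sin (Real.pi * ((v p.1 : ℝ) - (v p.2 : ℝ)) / (n : ℝ))) ^ 2 : ℝ) : ℂ) =
      (-1) ^ ((univ : Finset (Fin r × Fin r)).filter (fun p => p.1 < p.2)).card *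
        W n e e' (fun j => (v j : ℤ)) := by
  have hnC : (n : ℂ) ≠ 0 := Nat.cast_ne_zero.mpr hn
  have hrC : (r : ℂ) ≠ 0 := Nat.cast_ne_zero.mpr hr
  have halt : ∀ f : Fin r → ℕ, (Matrix.of fun i j : Fin r => z j ^ f i).det =
      alt n f (fun j => (v j : ℤ)) := by
    intro f
    rw [alt]; congr 1; ext i j
    simp only [Matrix.of_apply, hz, ← exp_nat_mul]
    congr 1; push_cast; ring
  set D := (Matrix.of fun i j : Fin r => z j ^ (r - 1 - (i : ℕ))).det
  set PP := ((∏ p ∈ (univ : Finset (Fin r × Fin r)).filter (fun p => p.1 < p.2),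
          ((2 : ℝ) * Real.sin (Real.pi * ((v p.1 : ℝ) - (v p.2 : ℝ)) / (n : ℝ))) ^ 2 : ℝ) : ℂ)
  set N := ((univ : Finset (Fin r × Fin r)).filter (fun p => p.1 < p.2)).card
  have hzinj : Function.Injective z := by
    intro i j h
    rw [hz, hz, exp_eq_exp_iff_exists_int] at h
    obtain ⟨m, hm⟩ := h
    field_simp at hm
    have h' : ((v i : ℤ) : ℂ) = ((v j + n * m : ℤ) : ℂ) := by push_cast; linear_combination hm
    have h'' : (v i : ℤ) = v j + n * m := by exact_mod_cast h'
    apply hv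
    have := hvn i; have := hvn j
    rcases lt_trichotomy m 0 with h0 | h0 | h0
    · have : (n : ℤ) * m ≤ -n := by nlinarith
      omega
    · subst h0; simpa using h''
    · have : (n : ℤ) ≤ n * m := by nlinarith
      omega
  have hD2 : D ^ 2 = (-1) ^ N * (∏ j, z j) ^ (r - 1) * PP := by
    rw [vand_sq, ← prod_pairs]
    simp only [PP, N, Complex.ofReal_prod]
    rw [← Finset.prod_const, ← Finset.prod_mul_distrib, ← Finset.prod_mul_distrib]
    exact Finset.prod_congr rfl fun p _ => by rw [hz, hz, sub_sq_eq]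
  have hD0 : D ≠ 0 := by
    have : D ^ 2 ≠ 0 := by
      rw [vand_sq]
      refine Finset.prod_ne_zero_iff.mpr fun p hp => pow_ne_zero _ (sub_ne_zero.mpr fun h => ?_)
      exact (Finset.mem_filter.mp hp).2.ne (hzinj h)
    exact fun h => this (by simp [h])
  have hZ : (∏ j, z j) ^ (r - 1) =
      exp (2 * Real.pi * I * ((r - 1 : ℕ) : ℂ) * ((∑ j, v j : ℕ) : ℂ) / n) := by
    rw [Finset.prod_congr rfl (fun j _ => hz j), ← exp_sum, ← exp_nat_mul]
    congr 1
    push_cast
    simp only [Finset.mul_sum, Finset.sum_div]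
    exact Finset.sum_congr rfl fun j _ => by ring
  have hexp : exp (-(2 * Real.pi * I * (L : ℂ) * ((∑ j, v j : ℕ) : ℂ) / ((r : ℂ) * n))) =
      exp (-(2 * Real.pi * I * (((∑ i, e i) + ∑ i, e' i : ℕ) : ℂ) *
          ((∑ j, (v j : ℤ) : ℤ) : ℂ) / ((r : ℂ) * n))) * (∏ j, z j) ^ (r - 1) := by
    rw [hZ, ← exp_add, hL]
    congr 1
    push_cast
    field_simp
    ring
  rw [halt e, halt e', hexp, W]
  have h1 : ((-1 : ℂ)) ^ N * ((-1 : ℂ)) ^ N = 1 := by rw [← mul_pow]; simp
  field_simp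
  rw [hD2]
  linear_combination (-((∏ j, z j) ^ (r - 1) * PP *
          alt n e (fun j => (v j : ℤ)) * alt n e' (fun j => (v j : ℤ)))) * h1

end Groth.Agent.Verlinde
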